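import Cfsg.Agent.H13.OddPush.Img

/-!
Pushing up and odd automorphisms of a Sylow subgroup: every image of `Ω₁(Z(O_p(G)))` under an automorphism
of odd order centralizes `Ω₁(Z(O_p(G)))`.
-/

set_option autoImplicit false
set_option linter.unusedSectionVars false
set_option linter.style.haveILetI false

namespace Cfsg.Agent.H13.OddPush

open Subgroup Cfsg.Agent Cfsg.Agent.H63 Cfsg.Agent.H11.PMinFF Cfsg.Agent.H11.PushUpMin
open scoped commutatorElement IsMulCommutative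

universe u

variable {G : Type u} [Group G] [Finite G] [Fact (Nat.Prime 2)] {T : Sylow 2 G}

local notation "Vm" => Additive (Vs 2 G)

/-- An image of the module. -/
noncomputable abbrev Yv (φ : MulAut ↥(T : Subgroup G)) : Subgroup G := im φ (Vs 2 G)

/-- The points of the module fixed by a subgroup. -/
abbrev Cf (X : Subgroup G) : Subgroup G := Vs 2 G ⊓ centralizer (X : Set G)

/-- The image moves the module. -/
def Opp (φ : MulAut ↥(T : Subgroup G)) : Prop := ¬ Yv φ ≤ Cv 2 G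

theorem Vs_le_T : Vs 2 G ≤ (T : Subgroup G) := Vs_le_pCore.trans (Cores.pCore_le_sylow T)

theorem Vs_centralizes_iff {X : Subgroup G} :
    X ≤ Cv 2 G ↔ Vs 2 G ≤ centralizer (X : Set G) := le_centralizer_iff

theorem Yv_one : Yv (1 : MulAut ↥(T : Subgroup G)) = Vs 2 G := im_one Vs_le_T

theorem Yv_mul (φ ψ : MulAut ↥(T : Subgroup G)) : Yv (φ * ψ) = im φ (Yv ψ) := (im_im φ ψ _).symm

theorem Yv_elem (φ : MulAut ↥(T : Subgroup G)) : Cfsg.IsElementaryAbelian 2 (Yv φ) :=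
  im_elem φ (H31.elem_omegaOne_center 2 _)

theorem Yv_normalised (φ : MulAut ↥(T : Subgroup G)) : (T : Subgroup G) ≤ normalizer (Yv φ : Set G) :=
  im_normalised φ (le_top.trans (normalizer_eq_top (H := Vs 2 G)).ge)

theorem Opp.symm {φ : MulAut ↥(T : Subgroup G)} (h : Opp φ) : Opp φ⁻¹ := fun h0 => h (by
  have h1 := (im_centralizes_iff φ (im_le φ⁻¹ _) Vs_le_T).mpr h0
  rw [im_im, mul_inv_cancel, im_one Vs_le_T] at h1
  exact le_centralizer_iff.mp h1)

theorem Yv_commute_iff (φ ψ : MulAut ↥(T : Subgroup G)) :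
    Yv ψ ≤ centralizer (Yv φ : Set G) ↔ ¬ Opp (φ⁻¹ * ψ) := by
  rw [Opp, not_not, ← im_centralizes_iff φ (im_le _ _) Vs_le_T, ← Yv_mul, mul_inv_cancel_left]

/-- `|X| = |X̄| · |C_X(V)|`. -/
theorem card_map_mul (X : Subgroup G) :
    Nat.card (X.map (prj 2 G)) * Nat.card (X ⊓ Cv 2 G : Subgroup G) = Nat.card X := by
  have h := card_eq_card_quotient_mul_card_subgroup ((prj 2 G).comp X.subtype).ker
  rw [Nat.card_congr (QuotientGroup.quotientKerEquivRange ((prj 2 G).comp X.subtype)).toEquiv,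
    MonoidHom.range_eq_map, ← Subgroup.map_map, ← MonoidHom.range_eq_map, range_subtype,
    ← MonoidHom.comap_ker, QuotientGroup.ker_mk'] at h
  rw [h, inf_comm X]
  congr 1
  rw [← Nat.card_congr (subgroupOfEquivOfLe (inf_le_right : Cv 2 G ⊓ X ≤ X)).toEquiv, inf_subgroupOf_right]
  rfl

theorem Cf_eq_fix (X : Subgroup G) :
    Nat.card (Cf X) = Nat.card (fixS Vm (X.map (prj 2 G))) := by
  have e := (conj_quot (Vs 2 G)).img_fixS (X.comap (⊤ : Subgroup G).subtype)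
  rw [map_comap_eq_self (le_top.trans (range_subtype _).ge), ← Subgroup.map_map,
    map_comap_eq_self (le_top.trans (range_subtype _).ge)] at e
  rw [Cf, ← e, (conj_quot (Vs 2 G)).card_img]

theorem Cf_congr {X Y : Subgroup G} (h : X.map (prj 2 G) = Y.map (prj 2 G)) : Cf X = Cf Y := by
  have key : ∀ {X Y : Subgroup G}, Y.map (prj 2 G) ≤ X.map (prj 2 G) → Cf X ≤ Cf Y := by
    intro X Y h v hv
    refine ⟨hv.1, mem_centralizer_iff.mpr fun y hy => ?_⟩
    obtain ⟨x, hx, e⟩ := h (mem_map_of_mem _ hy)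
    obtain ⟨c, rfl⟩ : ∃ c, y = x * c := ⟨x⁻¹ * y, by rw [mul_inv_cancel_left]⟩
    rw [map_mul, eq_comm, mul_eq_left, prj_eq_one] at e
    have h1 : v * c = c * v := mem_centralizer_iff.mp e v hv.1
    have h2 : x * v = v * x := mem_centralizer_iff.mp hv.2 x hx
    rw [mul_assoc, ← h1, ← mul_assoc, h2, mul_assoc]
  exact le_antisymm (key h.ge) (key h.le)

theorem comm_congr {X Y : Subgroup G} (h : X.map (prj 2 G) = Y.map (prj 2 G)) :
    ⁅Vs 2 G, X⁆ = ⁅Vs 2 G, Y⁆ := by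
  have key : ∀ {X Y : Subgroup G}, X.map (prj 2 G) ≤ Y.map (prj 2 G) → ⁅Vs 2 G, X⁆ ≤ ⁅Vs 2 G, Y⁆ := by
    intro X Y h
    refine commutator_le.mpr fun v hv x hx => ?_
    obtain ⟨y, hy, e⟩ := h (mem_map_of_mem _ hx)
    obtain ⟨c, rfl⟩ : ∃ c, x = y * c := ⟨y⁻¹ * x, by rw [mul_inv_cancel_left]⟩
    rw [map_mul, eq_comm, mul_eq_left, prj_eq_one] at e
    have h1 : v * c = c * v := mem_centralizer_iff.mp e v hv
    have h2 : ⁅v, y * c⁆ = ⁅v, y⁆ := by
      calc ⁅v, y * c⁆ = ⁅v, y⁆ * (y * ⁅v, c⁆ * y⁻¹) := by simp only [commutatorElement_def]; group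
        _ = _ := by rw [commutatorElement_eq_one_iff_mul_comm.mpr h1]; group
    rw [h2]
    exact commutator_mem_commutator hv hy
  exact le_antisymm (key h.le) (key h.ge)

/-- The commutator of two elements of `O_2(G)` is fixed by the elements moving it into the module. -/
theorem conj_commutator {q q' e : G} (hq : q ∈ Cfsg.pCore 2 G) (hq' : q' ∈ Cfsg.pCore 2 G)
    (hv : ⁅e, q⁆ ∈ Vs 2 G) (hv' : ⁅e, q'⁆ ∈ Vs 2 G) : e * ⁅q, q'⁆ * e⁻¹ = ⁅q, q'⁆ := by
  set v := ⁅e, q⁆ with hvdef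
  set v' := ⁅e, q'⁆ with hvdef'
  have hcent : ∀ {w x : G}, w ∈ Vs 2 G → x ∈ Cfsg.pCore 2 G → w * x = x * w := fun hw hx =>
    mem_centralizer_iff.mp (pCore_le_Cv hx) _ hw
  have h1 : e * ⁅q, q'⁆ * e⁻¹ = ⁅v * q, v' * q'⁆ := by
    simp only [hvdef, hvdef', commutatorElement_def]; group
  rw [h1]
  have hv'Q : v' ∈ Cfsg.pCore 2 G := Vs_le_pCore hv'
  have hvQ : v ∈ Cfsg.pCore 2 G := Vs_le_pCore hv
  calc ⁅v * q, v' * q'⁆ = v * (q * v' * q' * q⁻¹) * v⁻¹ * q'⁻¹ * v'⁻¹ := by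
        simp only [commutatorElement_def]; group
    _ = (q * v' * q' * q⁻¹) * v * v⁻¹ * q'⁻¹ * v'⁻¹ := by
        rw [hcent hv (mul_mem (mul_mem (mul_mem hq hv'Q) hq') (inv_mem hq))]
    _ = q * v' * (q' * q⁻¹ * q'⁻¹) * v'⁻¹ := by group
    _ = q * (q' * q⁻¹ * q'⁻¹) * v' * v'⁻¹ := by
        rw [mul_assoc q, hcent hv' (mul_mem (mul_mem hq' (inv_mem hq)) (inv_mem hq')), ← mul_assoc q]
    _ = _ := by simp only [commutatorElement_def]; group

variable (D : Hyp T)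
include D

/-- A point fixed by a block of the group is fixed by the block of the offender. -/
theorem mem_fix_blk {A : Subgroup (Gb 2 G)} (hA : A ∈ D.Off) {m : Vm}
    (h : ∀ e ∈ D.EA A, prj 2 G e • m = m) : m ∈ fixS Vm (D.Blk A) := by
  rw [← D.fix_Dd hA]
  intro g hg
  rw [← (D.isE_EA hA).map] at hg
  obtain ⟨e, he, rfl⟩ := hg
  exact h e he

theorem moves_pCore {A : Subgroup (Gb 2 G)} (hA : A ∈ D.Off) {e q : G} (he : e ∈ D.EA A)
    (hq : q ∈ Cfsg.pCore 2 G) : ⁅e, q⁆ ∈ Vs 2 G := by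
  have := ((D.isE_EA hA).moves D rfl) (commutator_mem_commutator hq he)
  rw [← commutatorElement_inv] at this
  exact inv_mem_iff.mp this

/-- An image moving the module induces the join of the offenders. -/
theorem map_of_opp {φ : MulAut ↥(T : Subgroup G)} (h : Opp φ) : (Yv φ).map (prj 2 G) = D.UU := by
  have hmap : ∀ ψ : MulAut ↥(T : Subgroup G), (Yv ψ).map (prj 2 G) ≤ (D.TT : Subgroup (Gb 2 G)) :=
    fun ψ => by rw [D.TT_coe]; exact map_mono (im_le ψ _)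
  have hab : ∀ ψ : MulAut ↥(T : Subgroup G), (∀ a ∈ (Yv ψ).map (prj 2 G), ∀ b ∈ (Yv ψ).map (prj 2 G),
      a * b = b * a) ∧ ∀ a ∈ (Yv ψ).map (prj 2 G), a ^ 2 = 1 := fun ψ => by
    refine ⟨?_, ?_⟩
    · rintro _ ⟨a, ha, rfl⟩ _ ⟨b, hb, rfl⟩
      rw [← map_mul, H31.elem_comm (Yv_elem ψ) ha hb, map_mul]
    · rintro _ ⟨a, ha, rfl⟩
      rw [← map_pow, (Yv_elem ψ).2 a ha, map_one]
  have hk : ∀ ψ : MulAut ↥(T : Subgroup G),
      Nat.card (Yv ψ ⊓ Cv 2 G : Subgroup G) = Nat.card (Cf (Yv ψ⁻¹)) := fun ψ => by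
    have e : im ψ (Cf (Yv ψ⁻¹)) = Yv ψ ⊓ Cv 2 G := by
      rw [im_inf_centralizer ψ (im_le _ _), im_im, mul_inv_cancel, im_one Vs_le_T]
    rw [← e, card_im ψ (inf_le_left.trans Vs_le_T)]
  have hms : ∀ ψ : MulAut ↥(T : Subgroup G),
      mS Vm ((Yv ψ).map (prj 2 G)) * Nat.card (Cf (Yv ψ⁻¹)) =
        Nat.card (Vs 2 G) * Nat.card (Cf (Yv ψ)) := fun ψ => by
    rw [mS, ← Cf_eq_fix, mul_right_comm, ← hk, card_map_mul, card_im ψ Vs_le_T]
  have hV : Nat.card (Vs 2 G) = Nat.card Vm := rfl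
  have hle : ∀ ψ : MulAut ↥(T : Subgroup G), Nat.card (Cf (Yv ψ)) ≤ Nat.card (Cf (Yv ψ⁻¹)) := fun ψ =>
    Nat.le_of_mul_le_mul_left ((hms ψ).symm.le.trans
      (hV ▸ Nat.mul_le_mul_right _ (D.mS_le (hmap ψ) (hab ψ).1 (hab ψ).2))) Nat.card_pos
  have hfull : Nat.card Vm ≤ mS Vm ((Yv φ).map (prj 2 G)) := by
    refine Nat.le_of_mul_le_mul_right ?_ (Nat.card_pos (α := Cf (Yv φ⁻¹)))
    rw [hms, hV]
    refine Nat.mul_le_mul_left _ ?_
    have := hle φ⁻¹
    rwa [inv_inv] at this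
  refine le_antisymm (D.le_UU (hmap φ) (hab φ).1 (hab φ).2 hfull) (sSup_le fun A hA => ?_)
  obtain ⟨B, hB, hBmin⟩ := exists_minOff_le (V := Vm) (p := 2) (A := (Yv φ).map (prj 2 G))
    ⟨fun h0 => h (by rwa [Subgroup.map_eq_bot_iff, QuotientGroup.ker_mk'] at h0), (hab φ).1, (hab φ).2, hfull⟩
  obtain ⟨t, ht, rfl⟩ := offs_conj D.hs D.hm hA ⟨hBmin, hB.trans (hmap φ)⟩
  exact (cnj_mono hB t).trans (D.le_normalizer_TT_of_map (Yv_normalised φ) ht).le

theorem map_eq_Jt {φ : MulAut ↥(T : Subgroup G)} (h : Opp φ) :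
    (Yv φ).map (prj 2 G) = (Jt T).map (prj 2 G) := (map_of_opp D h).trans D.Jt_map.symm

/-- The commutator with the module does not depend on the image. -/
theorem comm_eq {φ : MulAut ↥(T : Subgroup G)} (h : Opp φ) : ⁅Vs 2 G, Yv φ⁆ = ⁅Vs 2 G, Jt T⁆ :=
  comm_congr (map_eq_Jt D h)

theorem im_comm {φ : MulAut ↥(T : Subgroup G)} (h : Opp φ) :
    im φ ⁅Vs 2 G, Jt T⁆ = ⁅Vs 2 G, Jt T⁆ := by
  rw [← comm_eq D h.symm, im_commutator φ Vs_le_T (im_le _ _), im_im, mul_inv_cancel, im_one Vs_le_T,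
    commutator_comm, comm_eq D h, comm_eq D h.symm]

/-- The kernel of one image on another. -/
theorem inf_centralizer_eq {φ ψ : MulAut ↥(T : Subgroup G)} (h : Opp (φ⁻¹ * ψ)) :
    Yv φ ⊓ centralizer (Yv ψ : Set G) = im φ (Cf (Jt T)) := by
  rw [← Cf_congr (map_eq_Jt D h), im_inf_centralizer φ (im_le _ _), im_im, mul_inv_cancel_left]

theorem inf_Cv_eq {φ : MulAut ↥(T : Subgroup G)} (h : Opp φ) : Yv φ ⊓ Cv 2 G = im φ (Cf (Jt T)) := by
  have := inf_centralizer_eq D (φ := φ) (ψ := 1) (by rw [mul_one]; exact h.symm)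
  rwa [Yv_one] at this

/-- An element inducing a nontrivial offender element in every block. -/
theorem exists_regular : ∃ r ∈ D.UU, ∀ A ∈ D.Off, ∃ a ∈ A, a ≠ 1 ∧ a⁻¹ * r ∈ D.Oth A := by
  classical
  have key : ∀ S : Finset (Subgroup (Gb 2 G)), (∀ A ∈ S, A ∈ D.Off) →
      ∃ r ∈ D.UU, (∀ A ∈ S, ∃ a ∈ A, a ≠ 1 ∧ a⁻¹ * r ∈ D.Oth A) ∧
        ∀ A ∈ D.Off, A ∉ S → r ∈ D.Oth A := by
    intro S
    induction S using Finset.induction_on with
    | empty => exact fun _ => ⟨1, one_mem _, fun A hA => absurd hA (Finset.notMem_empty A), fun A _ _ => one_mem _⟩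
    | insert B S hBS ih =>
      intro hS
      obtain ⟨r, hr, h1, h2⟩ := ih fun A hA => hS A (Finset.mem_insert_of_mem hA)
      have hB : B ∈ D.Off := hS B (Finset.mem_insert_self B S)
      obtain ⟨b, hb, hb1⟩ := B.ne_bot_iff_exists_ne_one.mp hB.1.1.1 |> fun ⟨x, hx⟩ =>
        (⟨(x : Gb 2 G), x.2, fun e => hx (Subtype.ext e)⟩ : ∃ b ∈ B, b ≠ 1)
      have hbU : b ∈ D.UU := (le_sSup hB : B ≤ D.UU) hb
      refine ⟨r * b, mul_mem hr hbU, fun A hA => ?_, fun A hA hAS => ?_⟩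
      · rcases Finset.mem_insert.mp hA with rfl | hA'
        · refine ⟨b, hb, hb1, ?_⟩
          rw [D.UU_comm hr hbU, inv_mul_cancel_left]
          exact h2 A hB hBS
        · obtain ⟨a, ha, ha1, har⟩ := h1 A hA'
          refine ⟨a, ha, ha1, ?_⟩
          rw [← mul_assoc]
          exact mul_mem har (le_others hB (fun e => hBS (e ▸ hA')) hb)
      · rw [Finset.mem_insert, not_or] at hAS
        exact mul_mem (h2 A hA hAS.2) (le_others hB (Ne.symm hAS.1) hb)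
  obtain ⟨r, hr, h1, -⟩ := key (Set.toFinite D.Off).toFinset fun A hA => (Set.Finite.mem_toFinset _).mp hA
  exact ⟨r, hr, fun A hA => h1 A ((Set.Finite.mem_toFinset _).mpr hA)⟩

/-- Two images moving the module commute. -/
theorem commute_of_opp {φ ψ : MulAut ↥(T : Subgroup G)} (hφ : Opp φ) (hψ : Opp ψ) : ¬ Opp (φ⁻¹ * ψ) := by
  intro hχ
  obtain ⟨r, hr, hreg⟩ := exists_regular D
  obtain ⟨x', hx', hx'r⟩ : ∃ x' ∈ Yv ψ, prj 2 G x' = r := (map_of_opp D hψ).ge hr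
  obtain ⟨x, hx, hxr⟩ : ∃ x ∈ Yv φ, prj 2 G x = r := (map_of_opp D hφ).ge hr
  have hr1 : r ≠ 1 := by
    rintro rfl
    obtain ⟨A, hA⟩ := D.hne
    obtain ⟨a, ha, ha1, hao⟩ := hreg A hA
    rw [mul_one] at hao
    have d := (block_blk D.hs D.hm hA).toPairBase
    refine ha1 (d.eq_one_of_trivial (d.leL ha) fun v => ?_)
    exact (block_blk D.hs D.hm hA).rx_disp
      (mem_disp ((isPair_others D.hs D.hm hA).Q_le_rx (inv_mem_iff.mp hao)) v)
  have hx'C : x' ∉ centralizer (Yv φ : Set G) := fun hc => hr1 (by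
    have h1 : x' ∈ Yv ψ ⊓ centralizer (Yv φ : Set G) := ⟨hx', hc⟩
    rw [inf_centralizer_eq D (φ := ψ) (ψ := φ) (by
      have := hχ.symm
      rwa [mul_inv_rev, inv_inv] at this), ← inf_Cv_eq D hψ] at h1
    rw [← hx'r]
    exact prj_eq_one.mpr h1.2)
  -- an element of the module acting as `x'` on the image
  obtain ⟨y, hy, rfl⟩ : ∃ y : ↥(T : Subgroup G), (y : G) ∈ Yv (φ⁻¹ * ψ) ∧ ((φ y : ↥(T : Subgroup G)) : G) = x' := by
    have : x' ∈ im φ (Yv (φ⁻¹ * ψ)) := by rwa [im_im, mul_inv_cancel_left]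
    exact mem_im.mp this
  obtain ⟨z, hz, hzy⟩ : ∃ z ∈ Yv φ⁻¹, prj 2 G z = prj 2 G y :=
    ((map_of_opp D hχ).trans (map_of_opp D hφ.symm).symm).le (mem_map_of_mem _ hy)
  set z' : ↥(T : Subgroup G) := ⟨z, im_le _ _ hz⟩
  set w : G := ((φ z' : ↥(T : Subgroup G)) : G) with hwdef
  have hw : w ∈ Vs 2 G := by
    have := apply_mem_im (φ := φ) (h := z') hz
    rwa [im_im, mul_inv_cancel, im_one Vs_le_T] at this
  have hwc : ((φ y : ↥(T : Subgroup G)) : G) * w⁻¹ ∈ centralizer (Yv φ : Set G) := by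
    refine mem_centralizer_iff.mpr fun v hv => ?_
    obtain ⟨v0, hv0, rfl⟩ := mem_im.mp hv
    have hc : ((y * z'⁻¹ : ↥(T : Subgroup G)) : G) ∈ Cv 2 G := prj_eq_one.mp (by
      rw [coe_mul, map_mul, coe_inv, map_inv, hzy, mul_inv_cancel])
    have h2 : v0 * (y * z'⁻¹) = y * z'⁻¹ * v0 := Subtype.ext (mem_centralizer_iff.mp hc _ hv0)
    rw [hwdef, ← coe_inv, ← coe_mul, ← map_inv, ← map_mul, ← coe_mul, ← coe_mul, ← map_mul, ← map_mul, h2]
  set x' := ((φ y : ↥(T : Subgroup G)) : G)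
  have hsq : ∀ {g : G}, g ^ 2 = 1 → g⁻¹ = g := fun {g} hg => inv_eq_of_mul_eq_one_right (by rw [← pow_two, hg])
  have hw2 : w⁻¹ = w := hsq (Vs_pow hw)
  have hx2 : x⁻¹ = x := hsq ((Yv_elem φ).2 x hx)
  have hxT : x ∈ (T : Subgroup G) := im_le _ _ hx
  have hwT : w ∈ (T : Subgroup G) := Vs_le_T hw
  set d := x' * x * w with hddef
  have hdT : d ∈ (T : Subgroup G) := mul_mem (mul_mem (im_le _ _ hx') hxT) hwT
  have hdV : d ∈ Cv 2 G := prj_eq_one.mp (by
    rw [map_mul, map_mul, hx'r, ← hxr, ← map_mul, ← pow_two, (Yv_elem φ).2 x hx, map_one, one_mul]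
    exact prj_eq_one.mpr (mem_centralizer_iff.mpr fun v hv =>
      H31.elem_comm (H31.elem_omegaOne_center 2 _) hv hw))
  have hdX : d ∈ centralizer (Yv φ : Set G) := by
    have e : d = x' * w⁻¹ * (w * x * w⁻¹) := by rw [hddef, hw2]; rw [show x' * w * (w * x * w) = x' * (w * w) * x * w by group, ← pow_two, Vs_pow hw, mul_one]
    rw [e]
    refine mul_mem hwc (mem_centralizer_iff.mpr fun v hv => ?_)
    exact H31.elem_comm (Yv_elem φ) hv ((mem_normalizer_iff.mp (Yv_normalised φ hwT) x).mp hx)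
  have hdQ : d ∈ Cfsg.pCore 2 G := D.mem_pCore hdT hdV
  have hdd : d * d = ⁅x, w⁆ := by
    have h1 : x' = d * (w * x) := by
      rw [hddef, show x' * x * w * (w * x) = x' * x * (w * w) * x by group, ← pow_two, Vs_pow hw, mul_one,
        mul_assoc, ← pow_two, (Yv_elem φ).2 x hx, mul_one]
    have h2 : x' * x' = 1 := by rw [← pow_two]; exact (Yv_elem ψ).2 _ hx'
    have hcm : (w * x) * d = d * (w * x) := by
      rw [mul_assoc, mem_centralizer_iff.mp hdX x hx, ← mul_assoc, mem_centralizer_iff.mp hdV w hw, mul_assoc]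
    rw [h1] at h2
    have h3 : d * d * ((w * x) * (w * x)) = 1 := by
      rw [← h2]
      calc d * d * ((w * x) * (w * x)) = d * (d * (w * x)) * (w * x) := by group
        _ = d * ((w * x) * d) * (w * x) := by rw [hcm]
        _ = _ := by group
    calc d * d = ((w * x) * (w * x))⁻¹ := eq_inv_of_mul_eq_one_left h3
      _ = x⁻¹ * w⁻¹ * (x⁻¹ * w⁻¹) := by group
      _ = x * w * (x⁻¹ * w⁻¹) := by rw [hx2, hw2]
      _ = _ := by rw [commutatorElement_def]; group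
  obtain ⟨m, hm⟩ := exists_em hw
  set q : Vm := r • m - m
  have hq : emb (Vs 2 G) q = d * d := by
    rw [hdd, (conj_quot (Vs 2 G)).sub, ← hxr, em_act, hm, commutatorElement_def]
  have hfix : ∀ A ∈ D.Off, q ∈ fixS Vm (D.Blk A) := fun A hA => mem_fix_blk D hA fun e he => by
    refine (em_fixed e q).mpr ?_
    rw [hq]
    have hv := moves_pCore D hA he hdQ
    set v := ⁅e, d⁆ with hvdef
    have h1 : v * d = d * v := mem_centralizer_iff.mp (pCore_le_Cv hdQ) v hv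
    have h2 : v * v = 1 := by rw [← pow_two]; exact Vs_pow hv
    have h3 : e * (d * d) * e⁻¹ = d * d := by
      rw [show e * (d * d) * e⁻¹ = v * d * (v * d) by simp only [hvdef, commutatorElement_def]; group]
      calc v * d * (v * d) = d * v * (v * d) := by rw [h1]
        _ = d * (v * v) * d := by group
        _ = _ := by rw [h2, mul_one]
    exact (mul_inv_eq_iff_eq_mul.mp h3)
  have hmfix : m ∈ fixS Vm D.UU := by
    rw [← SetLike.mem_coe]
    intro g hg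
    suffices hU : D.UU ≤ MulAction.stabilizer (Gb 2 G) m from hU hg
    refine sSup_le fun A hA => ?_
    obtain ⟨a, ha, ha1, hao⟩ := hreg A hA
    set o := a⁻¹ * r
    have d' := (block_blk D.hs D.hm hA).toPairBase
    have h1 : o • m - m ∈ fixS Vm (D.Blk A) := (block_blk D.hs D.hm hA).rx_disp
      (mem_disp ((isPair_others D.hs D.hm hA).Q_le_rx hao) m)
    have h2 : a • (o • m - m) = o • m - m := h1 a (d'.leL ha)
    have h3 : q = (o • m - m) + (a • m - m) := by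
      conv_rhs => arg 1; rw [← h2]
      rw [smul_sub, ← mul_smul, show a * o = r from mul_inv_cancel_left a r]
      show r • m - m = _
      abel
    have h4 : a • m - m ∈ fixS Vm (D.Blk A) := by
      have := sub_mem (hfix A hA) h1
      rwa [h3, add_sub_cancel_left] at this
    by_contra hns
    exact ha1 (d'.nosing a ha m (fun hmA => hns fun g hg => hmA g hg) h4)
  refine hx'C ?_
  have hwX : w ∈ centralizer (Yv φ : Set G) := by
    refine mem_centralizer_iff.mpr fun v hv => ?_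
    rw [← hm]
    exact (em_fixed v m).mp (hmfix _ ((map_of_opp D hφ).le (mem_map_of_mem _ hv)))
  have := mul_mem hwc hwX
  rwa [inv_mul_cancel_right] at this

/-- The commutator of the module with `J(T)` is not fixed by the blocks. -/
theorem not_comm_le {φ ψ : MulAut ↥(T : Subgroup G)} (hφ : ¬ Opp φ) (hψ : ¬ Opp ψ)
    (hK : im φ ⁅Vs 2 G, Jt T⁆ = ⁅Vs 2 G, Jt T⁆) : ¬ Opp (φ⁻¹ * ψ) := by
  intro hχ
  have hQ : ∀ {θ : MulAut ↥(T : Subgroup G)}, ¬ Opp θ → Yv θ ≤ Cfsg.pCore 2 G := fun hθ y hy =>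
    D.mem_pCore (im_le _ _ hy) (not_not.mp hθ hy)
  have hK' : ⁅Vs 2 G, Jt T⁆ = ⁅Yv φ, Yv ψ⁆ := by
    conv_lhs => rw [← hK, ← comm_eq D hχ, im_commutator φ Vs_le_T (im_le _ _), im_im, mul_inv_cancel_left]
  obtain ⟨A, hA⟩ := D.hne
  have d' := (block_blk D.hs D.hm hA).toPairBase
  obtain ⟨x, hx⟩ := A.ne_bot_iff_exists_ne_one.mp hA.1.1.1
  have hx1 : (x : Gb 2 G) ≠ 1 := fun e => hx (Subtype.ext e)
  obtain ⟨m, hm⟩ : ∃ m : Vm, m ∉ fixS Vm A := by
    by_contra h0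
    push Not at h0
    exact hx1 (D.hs.faith _ fun v => h0 v _ x.2)
  obtain ⟨j, hj, hjx⟩ := D.exists_lift hA x.2
  refine hx1 (d'.nosing _ x.2 m hm (mem_fix_blk D hA fun e he => (em_fixed e _).mpr ?_))
  have hmem : emb (Vs 2 G) ((x : Gb 2 G) • m - m) ∈ ⁅Vs 2 G, Jt T⁆ := by
    rw [(conj_quot (Vs 2 G)).sub, ← hjx, em_act, ← commutatorElement_def, commutator_comm]
    exact commutator_mem_commutator hj (em_mem m)
  rw [hK'] at hmem
  have hle : ⁅Yv φ, Yv ψ⁆ ≤ centralizer ({e} : Set G) := commutator_le.mpr fun q hq q' hq' => by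
    rw [mem_centralizer_singleton_iff]
    exact (mul_inv_eq_iff_eq_mul.mp (conj_commutator (hQ hφ hq) (hQ hψ hq')
      (moves_pCore D hA he (hQ hφ hq)) (moves_pCore D hA he (hQ hψ hq')))).symm
  exact (mem_centralizer_singleton_iff.mp (hle hmem)).symm

/-- An automorphism of odd order moves the module into its centralizer. -/
theorem not_opp_of_odd {b : MulAut ↥(T : Subgroup G)} {n : ℕ} (hn : Odd n) (hbn : b ^ n = 1) : ¬ Opp b := by
  intro hb
  have hK : ∀ i, im (b ^ i) ⁅Vs 2 G, Jt T⁆ = ⁅Vs 2 G, Jt T⁆ := by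
    intro i
    induction i with
    | zero =>
      rw [pow_zero, im_one]
      exact (commutator_mono Vs_le_T D.Jt_le).trans (commutator_le.mpr fun a ha c hc => by
        rw [commutatorElement_def]; exact mul_mem (mul_mem (mul_mem ha hc) (inv_mem ha)) (inv_mem hc))
    | succ i ih => rw [pow_succ, ← im_im, im_comm D hb, ih]
  have h0 : ¬ Opp (1 : MulAut ↥(T : Subgroup G)) := fun h => h (by
    rw [Yv_one]; exact Vs_le_pCore.trans pCore_le_Cv)
  have halt : ∀ i, Opp (b ^ i) ↔ Odd i := by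
    intro i
    induction i with
    | zero => simpa using h0
    | succ i ih =>
      have hb' : Opp ((b ^ i)⁻¹ * b ^ (i + 1)) := by rwa [pow_succ, inv_mul_cancel_left]
      rw [Nat.odd_add_one, ← ih]
      refine ⟨fun h1 h2 => commute_of_opp D h2 h1 hb', fun h1 => by_contra fun h2 => ?_⟩
      exact not_comm_le D h1 h2 (hK i) hb'
  exact h0 (hbn ▸ (halt n).mpr hn)

end Cfsg.Agent.H13.OddPush
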