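import Cfsg.Agent.H11.PushUpMin.Members

/-!
Pushing up and odd automorphisms of a Sylow subgroup: images of subgroups under automorphisms.
-/

set_option autoImplicit false
set_option linter.unusedSectionVars false
set_option linter.style.haveILetI false

namespace Cfsg.Agent.H13.OddPush

open Subgroup Cfsg.Agent
open scoped commutatorElement

universe u

variable {G : Type u} [Group G] {T : Subgroup G}

/-- The image of `X ∩ T` under an automorphism of `T`, in `G`. -/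
def im (φ : MulAut ↥T) (X : Subgroup G) : Subgroup G :=
  ((X.subgroupOf T).map φ.toMonoidHom).map T.subtype

theorem mem_im {φ : MulAut ↥T} {X : Subgroup G} {x : G} :
    x ∈ im φ X ↔ ∃ h : ↥T, (h : G) ∈ X ∧ ((φ h : ↥T) : G) = x := by
  constructor
  · rintro ⟨_, ⟨h, hh, rfl⟩, rfl⟩
    exact ⟨h, hh, rfl⟩
  · rintro ⟨h, hh, rfl⟩
    exact ⟨_, ⟨h, hh, rfl⟩, rfl⟩

theorem apply_mem_im {φ : MulAut ↥T} {X : Subgroup G} {h : ↥T} (hh : (h : G) ∈ X) :
    ((φ h : ↥T) : G) ∈ im φ X := mem_im.mpr ⟨h, hh, rfl⟩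

theorem apply_mem_im_iff {φ : MulAut ↥T} {X : Subgroup G} {h : ↥T} :
    ((φ h : ↥T) : G) ∈ im φ X ↔ (h : G) ∈ X := by
  refine ⟨fun hh => ?_, apply_mem_im⟩
  obtain ⟨k, hk, hkh⟩ := mem_im.mp hh
  rwa [φ.injective (Subtype.ext hkh)] at hk

theorem im_le (φ : MulAut ↥T) (X : Subgroup G) : im φ X ≤ T := map_subtype_le _

theorem im_mono (φ : MulAut ↥T) {X Y : Subgroup G} (h : X ≤ Y) : im φ X ≤ im φ Y :=
  map_mono (map_mono fun _ hx => h hx)

theorem im_one {X : Subgroup G} (hX : X ≤ T) : im (1 : MulAut ↥T) X = X := by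
  ext x
  rw [mem_im]
  exact ⟨fun ⟨h, hh, e⟩ => e ▸ hh, fun hx => ⟨⟨x, hX hx⟩, hx, rfl⟩⟩

theorem im_im (φ ψ : MulAut ↥T) (X : Subgroup G) : im φ (im ψ X) = im (φ * ψ) X := by
  ext x
  rw [mem_im, mem_im]
  constructor
  · rintro ⟨h, hh, rfl⟩
    obtain ⟨k, hk, hkh⟩ := mem_im.mp hh
    exact ⟨k, hk, by rw [← show ψ k = h from Subtype.ext hkh]; rfl⟩
  · rintro ⟨k, hk, rfl⟩
    exact ⟨ψ k, apply_mem_im hk, rfl⟩

theorem card_im (φ : MulAut ↥T) {X : Subgroup G} (hX : X ≤ T) : Nat.card (im φ X) = Nat.card X := by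
  rw [im, card_map_of_injective T.subtype_injective, card_map_of_injective φ.injective,
    Nat.card_congr (subgroupOfEquivOfLe hX).toEquiv]

theorem im_inf_centralizer (φ : MulAut ↥T) {X Y : Subgroup G} (hY : Y ≤ T) :
    im φ (X ⊓ centralizer (Y : Set G)) = im φ X ⊓ centralizer (im φ Y : Set G) := by
  ext x
  constructor
  · intro hx
    obtain ⟨h, hh, rfl⟩ := mem_im.mp hx
    refine ⟨apply_mem_im (mem_inf.mp hh).1, mem_centralizer_iff.mpr fun y hy => ?_⟩
    obtain ⟨k, hk, rfl⟩ := mem_im.mp hy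
    have : k * h = h * k := Subtype.ext (mem_centralizer_iff.mp (mem_inf.mp hh).2 k hk)
    rw [← coe_mul, ← coe_mul, ← map_mul, ← map_mul, this]
  · rintro ⟨hx, hxc⟩
    obtain ⟨h, hh, rfl⟩ := mem_im.mp hx
    refine apply_mem_im ⟨hh, mem_centralizer_iff.mpr fun y hy => ?_⟩
    have := mem_centralizer_iff.mp hxc _ (apply_mem_im (φ := φ) (h := ⟨y, hY hy⟩) hy)
    rw [← coe_mul, ← coe_mul, ← map_mul, ← map_mul] at this
    exact congrArg Subtype.val (φ.injective (Subtype.ext this))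

theorem im_centralizes_iff (φ : MulAut ↥T) {X Y : Subgroup G} (hX : X ≤ T) (hY : Y ≤ T) :
    im φ X ≤ centralizer (im φ Y : Set G) ↔ X ≤ centralizer (Y : Set G) := by
  constructor
  · intro h x hx
    have h1 : im φ X ⊓ centralizer (im φ Y : Set G) = im φ X := inf_eq_left.mpr h
    rw [← im_inf_centralizer φ hY] at h1
    have h2 := (apply_mem_im_iff (h := ⟨x, hX hx⟩)).mp
      (h1.symm ▸ apply_mem_im (φ := φ) (h := ⟨x, hX hx⟩) hx)
    exact (mem_inf.mp h2).2
  · intro h x hx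
    have h1 : im φ (X ⊓ centralizer (Y : Set G)) = im φ X := by rw [inf_eq_left.mpr h]
    rw [← h1, im_inf_centralizer φ hY] at hx
    exact hx.2

theorem im_commutator (φ : MulAut ↥T) {X Y : Subgroup G} (hX : X ≤ T) (hY : Y ≤ T) :
    im φ ⁅X, Y⁆ = ⁅im φ X, im φ Y⁆ := by
  have h1 : ⁅X, Y⁆.subgroupOf T = ⁅X.subgroupOf T, Y.subgroupOf T⁆ := by
    refine Subgroup.map_injective T.subtype_injective ?_
    rw [map_commutator, map_subgroupOf_eq_of_le hX, map_subgroupOf_eq_of_le hY,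
      map_subgroupOf_eq_of_le ((commutator_mono hX hY).trans (commutator_le.mpr fun a ha b hb => by
        rw [commutatorElement_def]; exact mul_mem (mul_mem (mul_mem ha hb) (inv_mem ha)) (inv_mem hb)))]
  rw [im, h1, map_commutator, map_commutator]
  rfl

theorem im_normalised (φ : MulAut ↥T) {X : Subgroup G} (hn : T ≤ normalizer (X : Set G)) :
    T ≤ normalizer (im φ X : Set G) := by
  have key : ∀ t : ↥T, ∀ x ∈ im φ X, (t : G) * x * (t : G)⁻¹ ∈ im φ X := by
    intro t x hx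
    obtain ⟨h, hh, rfl⟩ := mem_im.mp hx
    refine mem_im.mpr ⟨φ.symm t * h * (φ.symm t)⁻¹, ?_, ?_⟩
    · exact (mem_normalizer_iff.mp (hn (φ.symm t).2) (h : G)).mp hh
    · rw [map_mul, map_mul, map_inv, MulEquiv.apply_symm_apply]
      rfl
  intro t ht
  refine mem_normalizer_iff.mpr fun x => ⟨key ⟨t, ht⟩ x, fun hx => ?_⟩
  have := key ⟨t⁻¹, inv_mem ht⟩ _ hx
  simpa [mul_assoc] using this

theorem im_elem {p : ℕ} (φ : MulAut ↥T) {X : Subgroup G} (hX : Cfsg.IsElementaryAbelian p X) :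
    Cfsg.IsElementaryAbelian p (im φ X) := by
  refine H31.elem_mk (fun x hx y hy => ?_) fun x hx => ?_
  · obtain ⟨h, hh, rfl⟩ := mem_im.mp hx
    obtain ⟨k, hk, rfl⟩ := mem_im.mp hy
    have : h * k = k * h := Subtype.ext (H31.elem_comm hX hh hk)
    rw [← coe_mul, ← coe_mul, ← map_mul, ← map_mul, this]
  · obtain ⟨h, hh, rfl⟩ := mem_im.mp hx
    have : h ^ p = 1 := Subtype.ext (hX.2 _ hh)
    rw [← SubgroupClass.coe_pow, ← map_pow, this, map_one]
    rfl

end Cfsg.Agent.H13.OddPush
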