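import Cfsg.Agent.H13.OddPush.Core

/-!
Pushing up and odd automorphisms of a Sylow subgroup: the invariant normal subgroup.
-/

set_option autoImplicit false
set_option linter.unusedSectionVars false
set_option linter.style.haveILetI false

namespace Cfsg.Agent.H13.OddPush

open Subgroup Cfsg.Agent Cfsg.Agent.H63 Cfsg.Agent.H11.PMinFF Cfsg.Agent.H11.PushUpMin
open scoped commutatorElement IsMulCommutative

universe u

theorem baumann_map_inj {K : Type u} {G : Type u} [Group K] [Group G] (p : ℕ) {f : K →* G}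
    (hf : Function.Injective f) (P : Subgroup K) :
    (Cfsg.baumannSubgroupOf p P).map f = Cfsg.baumannSubgroupOf p (P.map f) := by
  unfold Cfsg.baumannSubgroupOf
  set X := Cfsg.omegaOne p (Cfsg.centerThompsonOf p P) with hXdef
  have hX : X.map f = Cfsg.omegaOne p (Cfsg.centerThompsonOf p (P.map f)) := by
    rw [hXdef, H31.omegaOne_map hf]
    unfold Cfsg.centerThompsonOf
    rw [H31.map_inf_centralizer hf, H31.thompsonSubgroupOf_map hf]
  rw [← hX]
  ext x
  constructor
  · rintro ⟨y, hy, rfl⟩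
    exact ⟨mem_map_of_mem f hy.1, (mem_centralizer_map hf).mpr hy.2⟩
  · rintro ⟨⟨y, hy, rfl⟩, hx⟩
    exact mem_map_of_mem f ⟨hy, (mem_centralizer_map hf).mp hx⟩

theorem comap_baumann_invariant {G : Type u} [Group G] [Finite G] (p : ℕ) (T : Subgroup G) {C : Subgroup G}
    (hC : C ≤ Cfsg.baumannSubgroupOf p T) (hc : (C.subgroupOf (Cfsg.baumannSubgroupOf p T)).Characteristic)
    (a : MulAut ↥T) (x : ↥T) (hx : (x : G) ∈ C) : ((a x : ↥T) : G) ∈ C := by
  set B₀ := Cfsg.baumannSubgroupOf p (⊤ : Subgroup ↥T)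
  have hB : B₀.map T.subtype = Cfsg.baumannSubgroupOf p T := by
    rw [baumann_map_inj p T.subtype_injective, ← MonoidHom.range_eq_map, range_subtype]
  have ha : B₀.map a.toMonoidHom = B₀ := by
    rw [baumann_map_inj p a.injective, ← MonoidHom.range_eq_map, MonoidHom.range_eq_top.mpr a.surjective]
  let e : ↥B₀ ≃* ↥(Cfsg.baumannSubgroupOf p T) :=
    (equivMapOfInjective B₀ T.subtype T.subtype_injective).trans (MulEquiv.subgroupCongr hB)
  let aB : MulAut ↥(Cfsg.baumannSubgroupOf p T) :=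
    (e.symm.trans ((equivMapOfInjective B₀ a.toMonoidHom a.injective).trans (MulEquiv.subgroupCongr ha))).trans e
  have hxB : x ∈ B₀ := by
    obtain ⟨y, hy, hyx⟩ := hB.ge (hC hx)
    rwa [← Subtype.ext hyx]
  have h := (characteristic_iff_le_comap.mp hc) aB (x := e ⟨x, hxB⟩) (by exact hx)
  rw [mem_comap, mem_subgroupOf] at h
  have he : e.symm (e ⟨x, hxB⟩) = ⟨x, hxB⟩ := e.symm_apply_apply _
  have key : ((aB.toMonoidHom (e ⟨x, hxB⟩) : ↥(Cfsg.baumannSubgroupOf p T)) : G) = ((a x : ↥T) : G) := by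
    show ((e ((MulEquiv.subgroupCongr ha) (equivMapOfInjective B₀ a.toMonoidHom a.injective
      (e.symm (e ⟨x, hxB⟩)))) : ↥(Cfsg.baumannSubgroupOf p T)) : G) = _
    rw [he]
    rfl
  exact key ▸ h

theorem omega_invariant {G : Type u} [Group G] (p : ℕ) (T : Subgroup G) (a : MulAut ↥T) (x : ↥T)
    (hx : (x : G) ∈ Cfsg.omegaOneCenter p T) : ((a x : ↥T) : G) ∈ Cfsg.omegaOneCenter p T := by
  have hT : (⊤ : Subgroup ↥T).map T.subtype = T := by rw [← MonoidHom.range_eq_map, range_subtype]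
  have h1 := map_omega_inj (p := p) T.subtype_injective (⊤ : Subgroup ↥T)
  rw [hT] at h1
  have h2 := map_omega_inj (p := p) a.injective (f := a.toMonoidHom) (⊤ : Subgroup ↥T)
  rw [← MonoidHom.range_eq_map, MonoidHom.range_eq_top.mpr a.surjective] at h2
  rw [h1] at hx ⊢
  obtain ⟨y, hy, hyx⟩ := hx
  rw [Subtype.ext hyx] at hy
  exact ⟨a x, h2.ge (mem_map_of_mem _ hy), rfl⟩

/-- Some nontrivial subgroup of `T` normal in `G` is invariant under a group of automorphisms of `T` of odd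
order. -/
theorem exists_invariant {G : Type u} [Group G] [Finite G] [Fact (Nat.Prime 2)]
    (hirr : ∀ S : Sylow 2 G, ∃! M : Subgroup G, IsCoatom M ∧ (S : Subgroup G) ≤ M)
    (hG : centralizer (Cfsg.pCore 2 G : Set G) ≤ Cfsg.pCore 2 G) (T : Sylow 2 G)
    (A : Subgroup (MulAut ↥(T : Subgroup G))) (hA : Odd (Nat.card A)) :
    ∃ U : Subgroup G, U ≠ ⊥ ∧ U.Normal ∧ U ≤ (T : Subgroup G) ∧
      ∀ a ∈ A, ∀ x : ↥(T : Subgroup G), (x : G) ∈ U → ((a x : ↥(T : Subgroup G)) : G) ∈ U := by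
  have hT0 : (T : Subgroup G) ≠ ⊥ := by
    intro h0
    have hQ : Cfsg.pCore 2 G = ⊥ := le_bot_iff.mp ((Cores.pCore_le_sylow T).trans h0.le)
    obtain ⟨M, ⟨hM, -⟩, -⟩ := hirr T
    refine hM.1 (eq_top_iff.mpr fun g _ => ?_)
    have : g ∈ Cfsg.pCore 2 G := hG (mem_centralizer_iff.mpr fun x hx => by
      rw [hQ] at hx
      rw [mem_bot.mp hx, one_mul, mul_one])
    rw [hQ, mem_bot] at this
    exact this ▸ M.one_mem
  by_cases hTn : (T : Subgroup G).Normal
  · exact ⟨T, hT0, hTn, le_rfl, fun a _ x _ => (a x).2⟩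
  have hmin : Cfsg.IsPMinimal 2 G := fun S => ⟨fun hn => hTn (by
    obtain ⟨g, hg⟩ := MulAction.exists_smul_eq G S T
    haveI := hn
    have : T = S := hg ▸ Sylow.smul_eq_iff_mem_normalizer.mpr
      ((normalizer_eq_top (H := (S : Subgroup G))).ge (mem_top g))
    rwa [this]), hirr S⟩
  by_cases hchar : ∃ C : Subgroup G, C ≤ Cfsg.baumannSubgroupOf 2 (T : Subgroup G) ∧ C ≠ ⊥ ∧
      (C.subgroupOf (Cfsg.baumannSubgroupOf 2 (T : Subgroup G))).Characteristic ∧ C.Normal
  · obtain ⟨C, hC, hC0, hc, hn⟩ := hchar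
    exact ⟨C, hC0, hn, hC.trans (H62.Blocks.baumann_le 2 _), fun a _ x hx =>
      comap_baumann_invariant 2 _ hC hc a x hx⟩
  by_cases hz : (Cfsg.omegaOneCenter 2 (T : Subgroup G)).Normal
  · refine ⟨_, fun h0 => ?_, hz, (H31.omegaOne_le 2 _).trans inf_le_left, fun a _ x hx =>
      omega_invariant 2 _ a x hx⟩
    haveI : Nontrivial (T : Subgroup G) := (nontrivial_iff_ne_bot _).mpr hT0
    haveI := T.isPGroup'.center_nontrivial
    obtain ⟨k, hk⟩ := IsPGroup.iff_card.mp (T.isPGroup'.to_subgroup (center ↥(T : Subgroup G)))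
    obtain ⟨z, hz'⟩ := exists_prime_orderOf_dvd_card' (G := center ↥(T : Subgroup G)) 2
      (hk ▸ dvd_pow_self 2 (fun e => by
        rw [e, pow_zero] at hk
        exact (Finite.one_lt_card (α := center ↥(T : Subgroup G))).ne' hk))
    have hzm : ((z : ↥(T : Subgroup G)) : G) ∈ Cfsg.omegaOneCenter 2 (T : Subgroup G) := by
      refine H31.mem_omegaOne ⟨(z : ↥(T : Subgroup G)).2, mem_centralizer_iff.mpr fun t ht =>
        congrArg Subtype.val (mem_center_iff.mp z.2 ⟨t, ht⟩)⟩ ?_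
      have := pow_orderOf_eq_one z
      rw [hz'] at this
      exact congrArg (fun w : center ↥(T : Subgroup G) => ((w : ↥(T : Subgroup G)) : G)) this
    rw [h0, mem_bot] at hzm
    rw [show z = 1 from Subtype.ext (Subtype.ext hzm), orderOf_one] at hz'
    omega
  push Not at hchar
  let D : Hyp T := ⟨hmin, hG, fun C h1 h2 h3 h4 => hchar C h1 h2 h3 h4, hz⟩
  -- the join of the images of the module
  set U := ⨆ a : A, Yv (a : MulAut ↥(T : Subgroup G))
  have hQ : ∀ a : A, Yv (a : MulAut ↥(T : Subgroup G)) ≤ Cfsg.pCore 2 G := fun a y hy =>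
    D.mem_pCore (im_le _ _ hy) (not_not.mp (not_opp_of_odd D (b := (a : MulAut ↥(T : Subgroup G)))
      (hA.of_dvd_nat (_root_.orderOf_dvd_natCard a))
      (by rw [← SubgroupClass.coe_pow, pow_orderOf_eq_one, OneMemClass.coe_one])) hy)
  have hUQ : U ≤ Cfsg.pCore 2 G := iSup_le hQ
  have hVU : Vs 2 G ≤ U := le_iSup_of_le (1 : A) (by rw [OneMemClass.coe_one, Yv_one])
  refine ⟨U, fun h0 => ?_, ?_, hUQ.trans (Cores.pCore_le_sylow T), fun a ha x hx => ?_⟩
  · exact hz (le_bot_iff.mp ((D.omega_T_le_Vs.trans hVU).trans h0.le) ▸ inferInstance)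
  · refine normalizer_eq_top_iff.mp (top_le_iff.mp (D.Dt_sup.ge.trans (sup_le ?_ ?_)))
    · refine iSup_le fun B => iSup_le fun C => ?_
      intro e he
      have key : ∀ e ∈ D.EA C, ∀ u ∈ U, e * u * e⁻¹ ∈ U := fun e he u hu => by
        have h1 := hVU (moves_pCore D C.2.1 he (hUQ hu))
        have := mul_mem h1 hu
        rwa [commutatorElement_def, inv_mul_cancel_right] at this
      refine mem_normalizer_iff.mpr fun u => ⟨key e he u, fun hu => ?_⟩
      have := key e⁻¹ (inv_mem he) _ hu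
      rwa [show e⁻¹ * (e * u * e⁻¹) * e⁻¹⁻¹ = u by group] at this
    · exact iSup_le_normalizer_of_forall fun a t ht => cnj_eq_self (Yv_normalised _ ht)
  · have hle : im a U ≤ U := by
      rw [im, map_le_iff_le_comap, map_le_iff_le_comap]
      have hsub : U.subgroupOf (T : Subgroup G) ≤
          ⨆ b : A, (Yv (b : MulAut ↥(T : Subgroup G))).subgroupOf (T : Subgroup G) := by
        intro y hy
        have hy' : (y : G) ∈ (⨆ b : A, (Yv (b : MulAut ↥(T : Subgroup G))).subgroupOf (T : Subgroup G)).map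
            (T : Subgroup G).subtype := by
          rw [Subgroup.map_iSup]
          have : (y : G) ∈ U := hy
          refine SetLike.le_def.mp (iSup_mono fun b => ?_) this
          rw [map_subgroupOf_eq_of_le (im_le _ _)]
        obtain ⟨y', hy', e⟩ := hy'
        rwa [Subtype.ext e] at hy'
      refine hsub.trans (iSup_le fun b y hy => ?_)
      have h1 : ((a y : ↥(T : Subgroup G)) : G) ∈ im a (Yv (b : MulAut ↥(T : Subgroup G))) := apply_mem_im hy
      rw [← Yv_mul] at h1
      exact le_iSup (fun c : A => Yv (c : MulAut ↥(T : Subgroup G))) (⟨a, ha⟩ * b : A) h1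
    exact hle (apply_mem_im hx)

end Cfsg.Agent.H13.OddPush
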